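import Groth.Agent.GenFlat.Limit
import Mathlib.RingTheory.Spectrum.Prime.Basic

/-!
# Descent of a constructible condition on the base to a finitely generated stage
-/

set_option autoImplicit false

universe u

namespace Groth.Agent.FibreDimStrata

variable {R : Type u} [CommRing R] [IsNoetherianRing R] (A : Type u) [CommRing A] [Algebra R A]

/-- A condition which is constant on strata and holds on the image of `Spec A` holds on the image of
`Spec S` for a large enough finitely generated `S`. -/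
theorem exists_stage (Φ : PrimeSpectrum R → Prop)
    (hgen : ∀ J : PrimeSpectrum R, ∃ c ∉ J.asIdeal, ∀ p : PrimeSpectrum R,
      J.asIdeal ≤ p.asIdeal → c ∉ p.asIdeal → (Φ p ↔ Φ J))
    (h : ∀ P : PrimeSpectrum A, Φ (P.comap (algebraMap R A))) :
    ∃ s : Finset A, ∀ S : Subalgebra R A, ↑s ⊆ (S : Set A) → ∀ q : PrimeSpectrum S,
      Φ (q.comap (algebraMap R S)) := by
  classical
  suffices ∀ J : Ideal R, ∃ s : Finset A, ∀ S : Subalgebra R A, ↑s ⊆ (S : Set A) →
      ∀ q : PrimeSpectrum S, J ≤ q.asIdeal.comap (algebraMap R S) → Φ (q.comap (algebraMap R S)) by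
    obtain ⟨s, hs⟩ := this ⊥
    exact ⟨s, fun S hS q => hs S hS q bot_le⟩
  intro J
  induction J using WellFoundedGT.induction with
  | _ J ih =>
  by_cases htop : J = ⊤
  · exact ⟨∅, fun S _ q hq => absurd (top_le_iff.1 (htop.ge.trans hq))
      (Ideal.comap_ne_top _ q.isPrime.ne_top)⟩
  by_cases hJ : J.IsPrime
  · obtain ⟨c, hc, hconst⟩ := hgen ⟨J, hJ⟩
    obtain ⟨t, ht⟩ := ih (J ⊔ Ideal.span {c}) (lt_of_le_of_ne le_sup_left fun h =>
      hc (h.ge (Ideal.mem_sup_right (Ideal.mem_span_singleton_self c))))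
    have hsup : ∀ (S : Subalgebra R A) (q : PrimeSpectrum S), J ≤ q.asIdeal.comap (algebraMap R S) →
        c ∈ q.asIdeal.comap (algebraMap R S) →
        J ⊔ Ideal.span {c} ≤ q.asIdeal.comap (algebraMap R S) :=
      fun S q h1 h2 => sup_le h1 ((Ideal.span_singleton_le_iff_mem _).2 h2)
    by_cases hΦ : Φ ⟨J, hJ⟩
    · refine ⟨t, fun S hS q hq => ?_⟩
      by_cases hcq : c ∈ q.asIdeal.comap (algebraMap R S)
      · exact ht S hS q (hsup S q hq hcq)
      · exact (hconst _ hq hcq).2 hΦ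
    · have hrad : algebraMap R A c ∈ (J.map (algebraMap R A)).radical := by
        rw [Ideal.radical_eq_sInf]
        refine Submodule.mem_sInf.2 fun P ⟨hJP, hP⟩ => by_contra fun hcP => hΦ ?_
        exact (hconst ((⟨P, hP⟩ : PrimeSpectrum A).comap (algebraMap R A))
          (Ideal.map_le_iff_le_comap.1 hJP) hcP).1 (h ⟨P, hP⟩)
      obtain ⟨m, hm⟩ := hrad
      obtain ⟨s, hs⟩ := GenFlat.exists_finset_mem_map J hm
      refine ⟨s ∪ t, fun S hS q hq => ?_⟩
      rw [Finset.coe_union, Set.union_subset_iff] at hS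
      refine ht S hS.2 q (hsup S q hq ?_)
      obtain ⟨y, hy, hy'⟩ := hs S hS.1
      have : y = algebraMap R S c ^ m := Subtype.ext (hy'.trans (by simp))
      rw [Ideal.mem_comap]
      exact q.isPrime.mem_of_pow_mem m (this ▸ Ideal.map_le_iff_le_comap.2 hq hy)
  · obtain ⟨a, b, ha, hb, hab⟩ : ∃ a b, a ∉ J ∧ b ∉ J ∧ a * b ∈ J := by
      by_contra! h
      exact hJ ⟨htop, fun {x y} hxy => or_iff_not_imp_left.2 fun hx =>
        by_contra fun hy => h x y hx hy hxy⟩
    obtain ⟨s, hs⟩ := ih (J ⊔ Ideal.span {a}) (lt_of_le_of_ne le_sup_left fun h =>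
      ha (h ▸ Ideal.mem_sup_right (Ideal.mem_span_singleton_self a)))
    obtain ⟨t, ht⟩ := ih (J ⊔ Ideal.span {b}) (lt_of_le_of_ne le_sup_left fun h =>
      hb (h ▸ Ideal.mem_sup_right (Ideal.mem_span_singleton_self b)))
    refine ⟨s ∪ t, fun S hS q hq => ?_⟩
    rw [Finset.coe_union, Set.union_subset_iff] at hS
    rcases (Ideal.IsPrime.comap (algebraMap R S)).mem_or_mem (hq hab) with h' | h'
    · exact hs S hS.1 q (sup_le hq ((Ideal.span_singleton_le_iff_mem _).2 h'))
    · exact ht S hS.2 q (sup_le hq ((Ideal.span_singleton_le_iff_mem _).2 h'))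

end Groth.Agent.FibreDimStrata
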