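import Groth.Agent.DimTheory.Algebra
import Mathlib.RingTheory.LocalRing.ResidueField.Fiber
import Mathlib.RingTheory.Flat.Stability
import Mathlib.RingTheory.Ideal.GoingUp
import Mathlib.RingTheory.FiniteStability
import Mathlib.RingTheory.Localization.Algebra
import Mathlib.LinearAlgebra.TensorProduct.Quotient

/-!
# The dimension of fibres is constant on a stratum
-/

set_option autoImplicit false

universe u

open scoped TensorProduct

namespace Groth.Agent.FibreDimStrata

variable {R : Type u} [CommRing R] {C : Type u} [CommRing C] [Algebra R C]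

/-- Kernel of `C → κ(p) ⊗ C`. -/
theorem exists_smul_mem (p : Ideal R) [p.IsPrime] {z : C}
    (hz : (1 : p.ResidueField) ⊗ₜ[R] z = 0) : ∃ e ∉ p, e • z ∈ p.map (algebraMap R C) := by
  let M := (R ⧸ p) ⊗[R] C
  let f : M →ₗ[R ⧸ p] p.ResidueField ⊗[R ⧸ p] M := TensorProduct.mk (R ⧸ p) p.ResidueField M 1
  have hf : IsLocalizedModule (nonZeroDivisors (R ⧸ p)) f :=
    (isLocalizedModule_iff_isBaseChange (nonZeroDivisors (R ⧸ p)) p.ResidueField f).2
      (TensorProduct.isBaseChange (R ⧸ p) M p.ResidueField)
  have h0 : f ((1 : R ⧸ p) ⊗ₜ[R] z) = 0 := by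
    let e := TensorProduct.AlgebraTensorModule.cancelBaseChange R (R ⧸ p) p.ResidueField p.ResidueField C
    apply e.injective
    rw [map_zero]
    show e ((1 : p.ResidueField) ⊗ₜ[R ⧸ p] ((1 : R ⧸ p) ⊗ₜ[R] z)) = 0
    simpa [e] using hz
  obtain ⟨⟨e, he⟩, h⟩ := (IsLocalizedModule.eq_zero_iff (nonZeroDivisors (R ⧸ p)) f).1 h0
  obtain ⟨e, rfl⟩ := Ideal.Quotient.mk_surjective e
  refine ⟨e, fun hep => nonZeroDivisors.ne_zero he (Ideal.Quotient.eq_zero_iff_mem.2 hep), ?_⟩
  have h' : (1 : R ⧸ p) ⊗ₜ[R] (e • z) = 0 := by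
    rw [TensorProduct.tmul_smul]
    exact (algebraMap_smul (R ⧸ p) e ((1 : R ⧸ p) ⊗ₜ[R] z)).symm.trans h
  have h'' := congrArg (TensorProduct.quotTensorEquivQuotSMul C p) h'
  rw [map_zero, ← map_one (Ideal.Quotient.mk p), TensorProduct.quotTensorEquivQuotSMul_mk_tmul,
    one_smul, Submodule.Quotient.mk_eq_zero, Ideal.smul_top_eq_map] at h''
  exact h''

variable {n : ℕ} (a : Fin n → C)

/-- `κ(p)[t] → κ(p) ⊗ C` given by the elements `a`. -/
noncomputable def hp (p : Ideal R) [p.IsPrime] :
    MvPolynomial (Fin n) p.ResidueField →ₐ[p.ResidueField] p.Fiber C :=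
  MvPolynomial.aeval fun i => (1 : p.ResidueField) ⊗ₜ[R] a i

theorem hp_map (p : Ideal R) [p.IsPrime] (f : MvPolynomial (Fin n) R) :
    hp a p (MvPolynomial.map (algebraMap R p.ResidueField) f) =
      (1 : p.ResidueField) ⊗ₜ[R] MvPolynomial.aeval a f := by
  rw [hp, MvPolynomial.aeval_map_algebraMap]
  have : (MvPolynomial.aeval (fun i => (1 : p.ResidueField) ⊗ₜ[R] a i) :
      MvPolynomial (Fin n) R →ₐ[R] p.Fiber C) =
      (Algebra.TensorProduct.includeRight : C →ₐ[R] p.ResidueField ⊗[R] C).comp (MvPolynomial.aeval a) :=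
    MvPolynomial.algHom_ext fun i => by simp
  rw [this]
  rfl

theorem exists_clear (p : Ideal R) [p.IsPrime] (f : MvPolynomial (Fin n) p.ResidueField) :
    ∃ r ∉ p, ∃ f₀ : MvPolynomial (Fin n) R,
      MvPolynomial.C (algebraMap R p.ResidueField r) * f =
        MvPolynomial.map (algebraMap R p.ResidueField) f₀ := by
  induction f using MvPolynomial.induction_on with
  | C x =>
    obtain ⟨⟨b, ⟨s, hs⟩⟩, hx⟩ := IsLocalization.surj (nonZeroDivisors (R ⧸ p)) x
    obtain ⟨b, rfl⟩ := Ideal.Quotient.mk_surjective b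
    obtain ⟨s, rfl⟩ := Ideal.Quotient.mk_surjective s
    refine ⟨s, fun hsp => nonZeroDivisors.ne_zero hs (Ideal.Quotient.eq_zero_iff_mem.2 hsp),
      MvPolynomial.C b, ?_⟩
    rw [MvPolynomial.map_C, ← map_mul, mul_comm]
    exact congrArg MvPolynomial.C hx
  | add f g hf hg =>
    obtain ⟨r, hr, f₀, hf⟩ := hf
    obtain ⟨s, hs, g₀, hg⟩ := hg
    refine ⟨r * s, fun h => (Ideal.IsPrime.mem_or_mem inferInstance h).elim hr hs,
      MvPolynomial.C s * f₀ + MvPolynomial.C r * g₀, ?_⟩
    simp only [map_add, map_mul, MvPolynomial.map_C]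
    rw [← hf, ← hg]
    ring
  | mul_X f i hf =>
    obtain ⟨r, hr, f₀, hf⟩ := hf
    exact ⟨r, hr, f₀ * MvPolynomial.X i, by rw [map_mul, MvPolynomial.map_X, ← hf, mul_assoc]⟩

theorem exists_clear_polynomial (p : Ideal R) [p.IsPrime]
    (q : Polynomial (MvPolynomial (Fin n) p.ResidueField)) :
    ∃ r ∉ p, ∃ q₀ : Polynomial (MvPolynomial (Fin n) R),
      Polynomial.C (MvPolynomial.C (algebraMap R p.ResidueField r)) * q =
        q₀.map (MvPolynomial.map (algebraMap R p.ResidueField)) := by
  induction q using Polynomial.induction_on' with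
  | add f g hf hg =>
    obtain ⟨r, hr, f₀, hf⟩ := hf
    obtain ⟨s, hs, g₀, hg⟩ := hg
    refine ⟨r * s, fun h => (Ideal.IsPrime.mem_or_mem inferInstance h).elim hr hs,
      Polynomial.C (MvPolynomial.C s) * f₀ + Polynomial.C (MvPolynomial.C r) * g₀, ?_⟩
    rw [Polynomial.map_add, Polynomial.map_mul, Polynomial.map_mul, Polynomial.map_C, Polynomial.map_C,
      MvPolynomial.map_C, MvPolynomial.map_C, ← hf, ← hg, map_mul, map_mul, map_mul]
    ring
  | monomial m c =>
    obtain ⟨r, hr, c₀, hc⟩ := exists_clear p c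
    exact ⟨r, hr, Polynomial.monomial m c₀, by
      rw [Polynomial.map_monomial, ← hc, Polynomial.C_mul_monomial]⟩

theorem finiteType_fiber (p : Ideal R) [p.IsPrime] [Algebra.FiniteType R C] :
    Algebra.FiniteType p.ResidueField (p.Fiber C) :=
  inferInstanceAs (Algebra.FiniteType p.ResidueField (p.ResidueField ⊗[R] C))

theorem finite_hp (p : Ideal R) [p.IsPrime] {s : Finset C} (hs : Algebra.adjoin R (s : Set C) = ⊤)
    (h : ∀ z ∈ s, (hp a p).toRingHom.IsIntegralElem ((1 : p.ResidueField) ⊗ₜ[R] z)) :
    (hp a p).Finite := by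
  let φ := (hp a p).toRingHom
  have hk : ∀ x : p.ResidueField, φ.IsIntegralElem (algebraMap p.ResidueField (p.Fiber C) x) := fun x => by
    have h1 : φ (MvPolynomial.C x) = algebraMap p.ResidueField (p.Fiber C) x := by
      show hp a p (algebraMap p.ResidueField _ x) = _
      exact (hp a p).commutes x
    rw [← h1]
    exact φ.isIntegralElem_map
  have hz : ∀ z : C, φ.IsIntegralElem ((1 : p.ResidueField) ⊗ₜ[R] z) := by
    intro z
    have hz : z ∈ Algebra.adjoin R (s : Set C) := hs ▸ Algebra.mem_top
    induction hz using Algebra.adjoin_induction with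
    | mem z hz => exact h z hz
    | algebraMap r =>
      have : (1 : p.ResidueField) ⊗ₜ[R] algebraMap R C r =
          algebraMap p.ResidueField (p.Fiber C) (algebraMap R p.ResidueField r) := by
        rw [Algebra.TensorProduct.algebraMap_apply, Algebra.algebraMap_eq_smul_one (A := C),
          TensorProduct.tmul_smul, TensorProduct.smul_tmul', ← Algebra.algebraMap_eq_smul_one]
        rfl
      rw [this]
      exact hk _
    | add x y _ _ hx hy => rw [TensorProduct.tmul_add]; exact RingHom.IsIntegralElem.add φ hx hy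
    | mul x y _ _ hx hy =>
      have : (1 : p.ResidueField) ⊗ₜ[R] (x * y) =
          ((1 : p.ResidueField) ⊗ₜ[R] x) * ((1 : p.ResidueField) ⊗ₜ[R] y) := by
        rw [Algebra.TensorProduct.tmul_mul_tmul, one_mul]
      rw [this]
      exact RingHom.IsIntegralElem.mul φ hx hy
  have hint : φ.IsIntegral := fun (t : p.ResidueField ⊗[R] C) => by
    induction t with
    | zero => exact φ.isIntegralElem_zero
    | add x y hx hy => exact RingHom.IsIntegralElem.add φ hx hy
    | tmul x z =>
      have : x ⊗ₜ[R] z = algebraMap p.ResidueField (p.Fiber C) x * ((1 : p.ResidueField) ⊗ₜ[R] z) := by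
        rw [Algebra.TensorProduct.algebraMap_apply, Algebra.TensorProduct.tmul_mul_tmul, mul_one, one_mul]
        rfl
      rw [this]
      exact RingHom.IsIntegralElem.mul φ (hk x) (hz z)
  have : Algebra.FiniteType R C := ⟨⟨s, hs⟩⟩
  have : Algebra.FiniteType p.ResidueField (p.Fiber C) := finiteType_fiber p
  have hft : (algebraMap p.ResidueField (p.Fiber C)).FiniteType :=
    RingHom.finiteType_algebraMap.2 inferInstance
  have hft' : φ.FiniteType := by
    refine RingHom.FiniteType.of_comp_finiteType (f := algebraMap p.ResidueField _) ?_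
    rwa [show φ.comp (algebraMap p.ResidueField _) = algebraMap p.ResidueField (p.Fiber C) from
      (hp a p).comp_algebraMap]
  exact RingHom.IsIntegral.to_finite hint hft'

theorem exists_const_fibre_dim [Algebra.FiniteType R C] (J : Ideal R) [J.IsPrime] :
    ∃ c, c ∉ J ∧ ∀ (p : Ideal R) [p.IsPrime], J ≤ p → c ∉ p →
      ringKrullDim (p.Fiber C) = ringKrullDim (J.Fiber C) := by
  classical
  rcases subsingleton_or_nontrivial (J.Fiber C) with hJC | hJC
  · obtain ⟨e, he, h1⟩ := exists_smul_mem J (z := (1 : C)) (Subsingleton.elim _ _)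
    refine ⟨e, he, fun p _ hle hep => ?_⟩
    have hsub : Subsingleton (p.Fiber C) := by
      refine subsingleton_of_zero_eq_one ?_
      have h2 : ∀ z ∈ J.map (algebraMap R C), (1 : p.ResidueField) ⊗ₜ[R] z = 0 := fun z hz => by
        have hle' : J.map (algebraMap R C) ≤ RingHom.ker
            (Algebra.TensorProduct.includeRight : C →ₐ[R] p.ResidueField ⊗[R] C).toRingHom :=
          Ideal.map_le_iff_le_comap.2 fun x hx => by
            have h0 : algebraMap R p.ResidueField x = 0 := Ideal.algebraMap_residueField_eq_zero.2 (hle hx)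
            show (1 : p.ResidueField) ⊗ₜ[R] algebraMap R C x = 0
            rw [Algebra.algebraMap_eq_smul_one (A := C), TensorProduct.tmul_smul, TensorProduct.smul_tmul',
              ← Algebra.algebraMap_eq_smul_one, h0, TensorProduct.zero_tmul]
        exact hle' hz
      have h3 := h2 _ h1
      rw [TensorProduct.tmul_smul] at h3
      have hu : algebraMap R p.ResidueField e ≠ 0 := fun h => hep (Ideal.algebraMap_residueField_eq_zero.1 h)
      rw [← algebraMap_smul p.ResidueField e] at h3
      exact ((smul_eq_zero.1 h3).resolve_left hu).symm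
    rw [ringKrullDim_eq_bot_of_subsingleton, ringKrullDim_eq_bot_of_subsingleton]
  have := finiteType_fiber (C := C) J
  obtain ⟨n, g, hg, hgfin, hdim⟩ := DimTheory.exists_normalization J.ResidueField (J.Fiber C)
  choose r hr a ha using fun i => Ideal.Fiber.exists_smul_eq_one_tmul J (g (MvPolynomial.X i))
  let ρ : Fin n → J.ResidueField := fun i => algebraMap R J.ResidueField (r i)
  have hρ : ∀ i, ρ i ≠ 0 := fun i h => hr i (Ideal.algebraMap_residueField_eq_zero.1 h)
  let σ : MvPolynomial (Fin n) J.ResidueField →ₐ[J.ResidueField] MvPolynomial (Fin n) J.ResidueField :=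
    MvPolynomial.aeval fun i => MvPolynomial.C (ρ i) * MvPolynomial.X i
  let τ : MvPolynomial (Fin n) J.ResidueField →ₐ[J.ResidueField] MvPolynomial (Fin n) J.ResidueField :=
    MvPolynomial.aeval fun i => MvPolynomial.C (ρ i)⁻¹ * MvPolynomial.X i
  have hστ : σ.comp τ = AlgHom.id _ _ := MvPolynomial.algHom_ext fun i => by
    simp only [AlgHom.comp_apply, τ, σ, MvPolynomial.aeval_X, map_mul, MvPolynomial.aeval_C,
      MvPolynomial.algebraMap_eq, AlgHom.id_apply]
    rw [← mul_assoc, ← map_mul, inv_mul_cancel₀ (hρ i), map_one, one_mul]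
  have hτσ : τ.comp σ = AlgHom.id _ _ := MvPolynomial.algHom_ext fun i => by
    simp only [AlgHom.comp_apply, τ, σ, MvPolynomial.aeval_X, map_mul, MvPolynomial.aeval_C,
      MvPolynomial.algebraMap_eq, AlgHom.id_apply]
    rw [← mul_assoc, ← map_mul, mul_inv_cancel₀ (hρ i), map_one, one_mul]
  let eσ := AlgEquiv.ofAlgHom σ τ hστ hτσ
  have hhJ : hp a J = g.comp σ := MvPolynomial.algHom_ext fun i => by
    simp only [hp, σ, AlgHom.comp_apply, MvPolynomial.aeval_X, map_mul]
    rw [← ha i, ← MvPolynomial.algebraMap_eq, AlgHom.commutes, ← Algebra.smul_def]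
    exact (algebraMap_smul J.ResidueField (r i) _).symm
  have hJinj : Function.Injective (hp a J) := by
    rw [hhJ]; exact hg.comp eσ.injective
  have hJfin : (hp a J).Finite := by
    rw [hhJ]; exact AlgHom.Finite.comp hgfin (AlgHom.Finite.of_surjective σ eσ.surjective)
  obtain ⟨s, hs⟩ := Algebra.FiniteType.out (R := R) (A := C)
  let φ : MvPolynomial (Fin n) R →ₐ[R] C := MvPolynomial.aeval a
  have rel : ∀ z : C, ∃ c, c ∉ J ∧ ∃ q : Polynomial (MvPolynomial (Fin n) R), ∃ N : ℕ,
      q.coeff N = MvPolynomial.C c ∧ q.natDegree ≤ N ∧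
      Polynomial.eval₂ φ.toRingHom z q ∈ J.map (algebraMap R C) := by
    intro z
    obtain ⟨q, hq, hev⟩ := hJfin.to_isIntegral ((1 : J.ResidueField) ⊗ₜ[R] z)
    obtain ⟨r', hr', q₀, hq₀⟩ := exists_clear_polynomial J q
    -- truncate `q₀` to degree `N`
    let N := q.natDegree
    let q₁ : Polynomial (MvPolynomial (Fin n) R) :=
      Polynomial.monomial N (MvPolynomial.C r') + ∑ i ∈ Finset.range N, Polynomial.monomial i (q₀.coeff i)
    have hcoe : q₁.coeff N = MvPolynomial.C r' := by
      simp [q₁, Polynomial.coeff_monomial]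
    have hdeg : q₁.natDegree ≤ N := by
      refine (Polynomial.natDegree_add_le _ _).trans (max_le (Polynomial.natDegree_monomial_le _) ?_)
      exact Polynomial.natDegree_sum_le_of_forall_le _ _ fun i hi =>
        (Polynomial.natDegree_monomial_le _).trans (Finset.mem_range.1 hi).le
    have hmap : q₁.map (MvPolynomial.map (algebraMap R J.ResidueField)) =
        Polynomial.C (MvPolynomial.C (algebraMap R J.ResidueField r')) * q := by
      ext1 i
      rw [Polynomial.coeff_map, Polynomial.coeff_C_mul]
      have hi₀ : ∀ j, MvPolynomial.map (algebraMap R J.ResidueField) (q₀.coeff j) =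
          MvPolynomial.C (algebraMap R J.ResidueField r') * q.coeff j := fun j => by
        rw [← Polynomial.coeff_map, ← hq₀, Polynomial.coeff_C_mul]
      rcases lt_trichotomy i N with h | h | h
      · rw [← hi₀ i]
        congr 1
        simp [q₁, Polynomial.coeff_monomial, h.ne', Finset.mem_range.2 h]
      · subst h
        rw [hcoe, MvPolynomial.map_C, show q.coeff N = 1 from hq, mul_one]
      · rw [Polynomial.coeff_eq_zero_of_natDegree_lt (lt_of_le_of_lt hdeg h),
          Polynomial.coeff_eq_zero_of_natDegree_lt h, map_zero, mul_zero]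
    have h0 : (1 : J.ResidueField) ⊗ₜ[R] Polynomial.eval₂ φ.toRingHom z q₁ = 0 := by
      have h1 := Polynomial.hom_eval₂ q₁ φ.toRingHom
        (Algebra.TensorProduct.includeRight : C →ₐ[R] J.ResidueField ⊗[R] C).toRingHom z
      have h2 : ((Algebra.TensorProduct.includeRight : C →ₐ[R] J.ResidueField ⊗[R] C).toRingHom).comp
          φ.toRingHom = (hp a J).toRingHom.comp (MvPolynomial.map (algebraMap R J.ResidueField)) :=
        RingHom.ext fun x => (hp_map a J x).symm
      rw [h2, ← Polynomial.eval₂_map, hmap, Polynomial.eval₂_mul] at h1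
      refine h1.trans ?_
      exact (congrArg _ hev).trans (mul_zero _)
    obtain ⟨e, he, hmem⟩ := exists_smul_mem J h0
    refine ⟨e * r', fun h => (Ideal.IsPrime.mem_or_mem inferInstance h).elim he hr',
      Polynomial.C (MvPolynomial.C e) * q₁, N, ?_, ?_, ?_⟩
    · rw [Polynomial.coeff_C_mul, hcoe, ← map_mul]
    · exact (Polynomial.natDegree_C_mul_le _ _).trans hdeg
    · rw [Polynomial.eval₂_mul, Polynomial.eval₂_C]
      show φ (MvPolynomial.C e) * _ ∈ _
      rwa [← MvPolynomial.algebraMap_eq, AlgHom.commutes, ← Algebra.smul_def]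
  choose c hc q N hqc hqd hqe using rel
  let c₀ := ∏ z ∈ s, c z
  refine ⟨c₀, fun h => ?_, fun p _ hle hcp => ?_⟩
  · obtain ⟨z, -, hz⟩ := (Ideal.IsPrime.prod_mem_iff (p := J)).1 h
    exact hc z hz
  have hcz : ∀ z ∈ s, c z ∉ p := fun z hz h =>
    hcp (Ideal.mem_of_dvd _ (Finset.dvd_prod_of_mem c hz) h)
  have hJp : ∀ z ∈ J.map (algebraMap R C), (1 : p.ResidueField) ⊗ₜ[R] z = 0 := fun z hz => by
    have hle' : J.map (algebraMap R C) ≤ RingHom.ker
        (Algebra.TensorProduct.includeRight : C →ₐ[R] p.ResidueField ⊗[R] C).toRingHom :=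
      Ideal.map_le_iff_le_comap.2 fun x hx => by
        have h0 : algebraMap R p.ResidueField x = 0 := Ideal.algebraMap_residueField_eq_zero.2 (hle hx)
        show (1 : p.ResidueField) ⊗ₜ[R] algebraMap R C x = 0
        rw [Algebra.algebraMap_eq_smul_one (A := C), TensorProduct.tmul_smul, TensorProduct.smul_tmul',
          ← Algebra.algebraMap_eq_smul_one, h0, TensorProduct.zero_tmul]
    exact hle' hz
  have hfin : (hp a p).Finite := by
    refine finite_hp a p hs fun z hz => ?_
    let π := MvPolynomial.map (algebraMap R p.ResidueField) (σ := Fin n)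
    let Q := ((q z).map π)
    have hu : IsUnit (MvPolynomial.C (σ := Fin n) (algebraMap R p.ResidueField (c z))) :=
      (isUnit_iff_ne_zero.2 fun h => hcz z hz (Ideal.algebraMap_residueField_eq_zero.1 h)).map MvPolynomial.C
    refine ⟨Polynomial.C (↑hu.unit⁻¹ : MvPolynomial (Fin n) p.ResidueField) * Q, ?_, ?_⟩
    · refine Polynomial.monic_of_natDegree_le_of_coeff_eq_one (N z) ?_ ?_
      · exact (Polynomial.natDegree_C_mul_le _ _).trans (Polynomial.natDegree_map_le.trans (hqd z))
      · rw [Polynomial.coeff_C_mul, Polynomial.coeff_map, hqc, MvPolynomial.map_C]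
        exact hu.val_inv_mul
    · rw [Polynomial.eval₂_mul]
      refine mul_eq_zero_of_right _ ?_
      have h2 : ((Algebra.TensorProduct.includeRight : C →ₐ[R] p.ResidueField ⊗[R] C).toRingHom).comp
          φ.toRingHom = (hp a p).toRingHom.comp π :=
        RingHom.ext fun x => (hp_map a p x).symm
      show Polynomial.eval₂ (hp a p).toRingHom _ ((q z).map π) = 0
      rw [Polynomial.eval₂_map, ← h2]
      exact (Polynomial.hom_eval₂ _ _ _ _).symm.trans (hJp _ (hqe z))
  have hinj : Function.Injective (hp a p) := by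
    let π := MvPolynomial.map (algebraMap R p.ResidueField) (σ := Fin n)
    let P : Ideal (MvPolynomial (Fin n) R) := RingHom.ker π
    have : P.IsPrime := RingHom.ker_isPrime _
    let Cb := C ⧸ J.map (algebraMap R C)
    let φb : MvPolynomial (Fin n) R →+* Cb := (Ideal.Quotient.mk _).comp φ.toRingHom
    have hker : RingHom.ker φb ≤ P := by
      intro f hf
      have hf' : φ f ∈ J.map (algebraMap R C) := Ideal.Quotient.eq_zero_iff_mem.1 hf
      have h0 : hp a J (MvPolynomial.map (algebraMap R J.ResidueField) f) = 0 := by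
        rw [hp_map]
        have hle' : J.map (algebraMap R C) ≤ RingHom.ker
            (Algebra.TensorProduct.includeRight : C →ₐ[R] J.ResidueField ⊗[R] C).toRingHom :=
          Ideal.map_le_iff_le_comap.2 fun x hx => by
            have h0 : algebraMap R J.ResidueField x = 0 := Ideal.algebraMap_residueField_eq_zero.2 hx
            show (1 : J.ResidueField) ⊗ₜ[R] algebraMap R C x = 0
            rw [Algebra.algebraMap_eq_smul_one (A := C), TensorProduct.tmul_smul, TensorProduct.smul_tmul',
              ← Algebra.algebraMap_eq_smul_one, h0, TensorProduct.zero_tmul]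
        exact hle' hf'
      rw [← map_zero (hp a J)] at h0
      have h1 := hJinj h0
      show MvPolynomial.map (algebraMap R p.ResidueField) f = 0
      ext m
      rw [MvPolynomial.coeff_map, MvPolynomial.coeff_zero]
      refine Ideal.algebraMap_residueField_eq_zero.2 (hle ?_)
      have := congrArg (MvPolynomial.coeff m) h1
      rwa [MvPolynomial.coeff_map, MvPolynomial.coeff_zero, Ideal.algebraMap_residueField_eq_zero] at this
    letI : Algebra (MvPolynomial (Fin n) R) Cb := φb.toAlgebra
    let M := Algebra.algebraMapSubmonoid Cb P.primeCompl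
    let L := Localization M
    have hL : Nontrivial L := by
      refine (subsingleton_or_nontrivial L).resolve_left fun hsub => ?_
      obtain ⟨⟨_, f, hf, rfl⟩, h⟩ := (IsLocalization.map_eq_zero_iff M L (1 : Cb)).1 (Subsingleton.elim _ _)
      rw [mul_one] at h
      exact hf (hker h)
    let Rp := Localization.AtPrime P
    letI : Algebra Rp L := localizationAlgebra P.primeCompl Cb
    have : IsScalarTower (MvPolynomial (Fin n) R) Rp L :=
      IsScalarTower.of_algebraMap_eq fun x =>
        (IsScalarTower.algebraMap_apply _ Cb L x).trans (IsLocalization.map_eq (S := Rp) _ x).symm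
    have hCint : ∀ x : C, IsIntegral Rp (algebraMap Cb L (Ideal.Quotient.mk _ x)) := by
      intro x
      have hx : x ∈ Algebra.adjoin R (s : Set C) := hs ▸ Algebra.mem_top
      induction hx using Algebra.adjoin_induction with
      | algebraMap r =>
        have : algebraMap Cb L (Ideal.Quotient.mk _ (algebraMap R C r)) =
            algebraMap Rp L (algebraMap (MvPolynomial (Fin n) R) Rp (MvPolynomial.C r)) := by
          rw [← IsScalarTower.algebraMap_apply, IsScalarTower.algebraMap_apply (MvPolynomial (Fin n) R) Cb L]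
          congr 1
          show _ = φb (MvPolynomial.C r)
          simp [φb, φ]
        rw [this]
        exact isIntegral_algebraMap
      | add x y _ _ hx hy => rw [map_add, map_add]; exact hx.add hy
      | mul x y _ _ hx hy => rw [map_mul, map_mul]; exact hx.mul hy
      | mem z hz =>
        have hCz : MvPolynomial.C (c z) ∈ P.primeCompl := fun h =>
          hcz z hz (Ideal.algebraMap_residueField_eq_zero.1 (MvPolynomial.C_injective _ _
            ((MvPolynomial.map_C _ _).symm.trans (h.trans (map_zero MvPolynomial.C).symm))))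
        have hu : IsUnit (algebraMap (MvPolynomial (Fin n) R) Rp (MvPolynomial.C (c z))) :=
          IsLocalization.map_units Rp ⟨_, hCz⟩
        refine ⟨Polynomial.C (↑hu.unit⁻¹ : Rp) * (q z).map (algebraMap _ Rp), ?_, ?_⟩
        · refine Polynomial.monic_of_natDegree_le_of_coeff_eq_one (N z) ?_ ?_
          · exact (Polynomial.natDegree_C_mul_le _ _).trans (Polynomial.natDegree_map_le.trans (hqd z))
          · rw [Polynomial.coeff_C_mul, Polynomial.coeff_map, hqc]
            exact hu.val_inv_mul
        · rw [Polynomial.eval₂_mul]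
          refine mul_eq_zero_of_right _ ?_
          rw [Polynomial.eval₂_map, ← IsScalarTower.algebraMap_eq,
            IsScalarTower.algebraMap_eq (MvPolynomial (Fin n) R) Cb L,
            show algebraMap (MvPolynomial (Fin n) R) Cb = (Ideal.Quotient.mk _).comp φ.toRingHom from rfl,
            ← RingHom.comp_assoc]
          exact (Polynomial.hom_eval₂ _ _ ((algebraMap Cb L).comp (Ideal.Quotient.mk _)) _).symm.trans
            (by rw [RingHom.comp_apply, Ideal.Quotient.eq_zero_iff_mem.2 (hqe z), map_zero])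
    have : Algebra.IsIntegral Rp L := ⟨fun x => by
      obtain ⟨⟨y, ⟨_, f, hf, rfl⟩⟩, hy⟩ := IsLocalization.surj M x
      obtain ⟨y, rfl⟩ := Ideal.Quotient.mk_surjective y
      have hu := IsLocalization.map_units Rp (⟨f, hf⟩ : P.primeCompl)
      have hx : x = algebraMap Rp L (↑hu.unit⁻¹) * algebraMap Cb L (Ideal.Quotient.mk _ y) := by
        rw [← hy, mul_left_comm, show algebraMap Cb L (algebraMap (MvPolynomial (Fin n) R) Cb f) =
          algebraMap Rp L (algebraMap (MvPolynomial (Fin n) R) Rp f) by
            rw [← IsScalarTower.algebraMap_apply, ← IsScalarTower.algebraMap_apply],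
          ← map_mul, hu.val_inv_mul, map_one, mul_one]
      rw [hx]
      exact isIntegral_algebraMap.mul (hCint y)⟩
    obtain ⟨m, hm⟩ := Ideal.exists_maximal L
    have hm' : (m.comap (algebraMap Rp L)).IsMaximal := Ideal.isMaximal_comap_of_isIntegral_of_isMaximal m
    have hm'' := IsLocalRing.eq_maximalIdeal hm'
    let ψ : C →+* L := (algebraMap Cb L).comp (Ideal.Quotient.mk _)
    let Q := m.comap ψ
    have hQ : ∀ f, φ f ∈ Q ↔ f ∈ P := fun f => by
      have h1 : ψ (φ f) = algebraMap Rp L (algebraMap (MvPolynomial (Fin n) R) Rp f) := by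
        rw [← IsScalarTower.algebraMap_apply, IsScalarTower.algebraMap_apply (MvPolynomial (Fin n) R) Cb L]
        rfl
      rw [Ideal.mem_comap, h1, ← Ideal.mem_comap, hm'', IsLocalization.AtPrime.to_map_mem_maximal_iff Rp P]
    have hQR : ∀ x : R, algebraMap R C x ∈ Q ↔ x ∈ p := fun x => by
      rw [← φ.commutes, hQ, RingHom.mem_ker, MvPolynomial.algebraMap_eq, MvPolynomial.map_C,
        ← map_zero MvPolynomial.C, MvPolynomial.C_inj, Ideal.algebraMap_residueField_eq_zero]
    rw [injective_iff_map_eq_zero]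
    intro f hf
    obtain ⟨r₁, hr₁, f₀, hf₀⟩ := exists_clear p f
    have h0 : (1 : p.ResidueField) ⊗ₜ[R] φ f₀ = 0 := by
      rw [← hp_map, ← hf₀, map_mul, hf, mul_zero]
    obtain ⟨e, he, hmem⟩ := exists_smul_mem p h0
    have : e • φ f₀ ∈ Q :=
      (Ideal.map_le_iff_le_comap.2 fun x hx => (hQR x).2 hx : p.map (algebraMap R C) ≤ Q) hmem
    rw [Algebra.smul_def] at this
    have hQp : Q.IsPrime := Ideal.IsPrime.comap ψ
    have h2 : MvPolynomial.map (algebraMap R p.ResidueField) f₀ = 0 :=
      (hQ f₀).1 ((hQp.mem_or_mem this).resolve_left fun h => he ((hQR e).1 h))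
    rw [h2] at hf₀
    refine (mul_eq_zero.1 hf₀).resolve_left fun h => hr₁ ?_
    rw [← map_zero MvPolynomial.C, MvPolynomial.C_inj] at h
    exact Ideal.algebraMap_residueField_eq_zero.1 h
  algebraize [(hp a p).toRingHom]
  have : Module.Finite (MvPolynomial (Fin n) p.ResidueField) (p.Fiber C) := hfin
  have : FaithfulSMul (MvPolynomial (Fin n) p.ResidueField) (p.Fiber C) :=
    (faithfulSMul_iff_algebraMap_injective _ _).2 hinj
  rw [hdim, DimTheory.ringKrullDim_eq_of_integral (MvPolynomial (Fin n) p.ResidueField) (p.Fiber C),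
    DimTheory.ringKrullDim_mvPolynomial_fin]

end Groth.Agent.FibreDimStrata
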