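import Groth.Agent.FibreDimStrata.Scheme
import Groth.Prelude.Def_RegImm
import Mathlib.RingTheory.MvPolynomial.Tower
import Mathlib.Algebra.MvPolynomial.CommRing

/-!
# Relative global complete intersections come from finitely generated rings
-/

set_option autoImplicit false

universe u

open CategoryTheory CategoryTheory.Limits AlgebraicGeometry
open scoped TensorProduct

namespace Groth.Agent.FibreDimStrata

variable {R₀ S : Type u} [CommRing R₀] [CommRing S] [Algebra R₀ S] {n c : ℕ}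
  (F₀ : Fin c → MvPolynomial (Fin n) R₀)

/-- Base change of a presented algebra. -/
noncomputable def gciBaseChange :
    S ⊗[R₀] Synt.RelGCIRing R₀ n c F₀ ≃ₐ[S]
      Synt.RelGCIRing S n c (fun i => MvPolynomial.map (algebraMap R₀ S) (F₀ i)) := by
  let F := fun i => MvPolynomial.map (algebraMap R₀ S) (F₀ i)
  let mk : MvPolynomial (Fin n) S →ₐ[S] Synt.RelGCIRing S n c F := Ideal.Quotient.mkₐ S _
  let φ : Synt.RelGCIRing R₀ n c F₀ →ₐ[R₀] Synt.RelGCIRing S n c F :=
    Ideal.Quotient.liftₐ _ (MvPolynomial.aeval fun i => mk (MvPolynomial.X i)) (by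
      have : Ideal.span (Set.range F₀) ≤ RingHom.ker
          (MvPolynomial.aeval (R := R₀) fun i => mk (MvPolynomial.X i)).toRingHom := by
        rw [Ideal.span_le]
        rintro _ ⟨i, rfl⟩
        show MvPolynomial.aeval _ (F₀ i) = 0
        rw [← MvPolynomial.aeval_map_algebraMap S, ← MvPolynomial.comp_aeval,
          MvPolynomial.aeval_X_left, AlgHom.comp_apply]
        exact Ideal.Quotient.eq_zero_iff_mem.2 (Ideal.subset_span (Set.mem_range_self i))
      exact fun a ha => this ha)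
  let fwd : S ⊗[R₀] Synt.RelGCIRing R₀ n c F₀ →ₐ[S] Synt.RelGCIRing S n c F :=
    Algebra.TensorProduct.lift (Algebra.ofId S _) φ fun _ _ => Commute.all _ _
  let bwd : Synt.RelGCIRing S n c F →ₐ[S] S ⊗[R₀] Synt.RelGCIRing R₀ n c F₀ :=
    Ideal.Quotient.liftₐ _ (MvPolynomial.aeval fun i =>
        (1 : S) ⊗ₜ[R₀] (Ideal.Quotient.mk _ (MvPolynomial.X i) : Synt.RelGCIRing R₀ n c F₀)) (by
      have : Ideal.span (Set.range F) ≤ RingHom.ker (MvPolynomial.aeval (R := S) fun i =>
          (1 : S) ⊗ₜ[R₀] (Ideal.Quotient.mk _ (MvPolynomial.X i) : Synt.RelGCIRing R₀ n c F₀)).toRingHom := by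
        rw [Ideal.span_le]
        rintro _ ⟨i, rfl⟩
        show MvPolynomial.aeval _ (MvPolynomial.map (algebraMap R₀ S) (F₀ i)) = 0
        rw [MvPolynomial.aeval_map_algebraMap]
        have h : (MvPolynomial.aeval fun i =>
            (1 : S) ⊗ₜ[R₀] (Ideal.Quotient.mk _ (MvPolynomial.X i) : Synt.RelGCIRing R₀ n c F₀) :
              MvPolynomial (Fin n) R₀ →ₐ[R₀] S ⊗[R₀] Synt.RelGCIRing R₀ n c F₀) =
            (Algebra.TensorProduct.includeRight).comp (Ideal.Quotient.mkₐ R₀ _) :=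
          MvPolynomial.algHom_ext fun i => by simp
        rw [h, AlgHom.comp_apply, Ideal.Quotient.mkₐ_eq_mk,
          Ideal.Quotient.eq_zero_iff_mem.2 (Ideal.subset_span (Set.mem_range_self i)), map_zero]
      exact fun a ha => this ha)
  refine AlgEquiv.ofAlgHom fwd bwd ?_ ?_
  · refine Ideal.Quotient.algHom_ext S (MvPolynomial.algHom_ext fun i => ?_)
    simp [fwd, bwd, φ, mk, F]
  · refine Algebra.TensorProduct.ext (Subsingleton.elim _ _) ?_
    refine Ideal.Quotient.algHom_ext R₀ (MvPolynomial.algHom_ext fun i => ?_)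
    simp [fwd, bwd, φ, mk, F]

theorem fibre_dim_gci (p : PrimeSpectrum R₀) (q : PrimeSpectrum S)
    (hpq : p = q.comap (algebraMap R₀ S)) :
    ringKrullDim (q.asIdeal.Fiber
        (Synt.RelGCIRing S n c (fun i => MvPolynomial.map (algebraMap R₀ S) (F₀ i)))) =
      ringKrullDim (p.asIdeal.Fiber (Synt.RelGCIRing R₀ n c F₀)) := by
  subst hpq
  rw [← fibre_dim_baseChange R₀ S (Synt.RelGCIRing R₀ n c F₀) (q.comap (algebraMap R₀ S)).asIdeal
    q.asIdeal rfl]
  exact ringKrullDim_eq_of_ringEquiv (Algebra.TensorProduct.congr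
    (AlgEquiv.refl (R := S) (A₁ := q.asIdeal.ResidueField)) (gciBaseChange F₀).symm).toRingEquiv

omit [CommRing S] [Algebra R₀ S]

theorem isRelGCI_iff : Synt.IsRelGCI R₀ n c F₀ ↔ ∀ p : PrimeSpectrum R₀,
    ringKrullDim (p.asIdeal.Fiber (Synt.RelGCIRing R₀ n c F₀)) ≠ ⊥ →
      c ≤ n ∧ ringKrullDim (p.asIdeal.Fiber (Synt.RelGCIRing R₀ n c F₀)) =
        ((n - c : ℕ) : WithBot ℕ∞) := by
  refine forall_congr' fun p => ⟨fun h hne => h ?_, fun h hnt => h fun hbot => ?_⟩
  · rcases subsingleton_or_nontrivial (p.asIdeal.Fiber (Synt.RelGCIRing R₀ n c F₀)) with hs | hs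
    · exact absurd ringKrullDim_eq_bot_of_subsingleton hne
    · exact hs
  · exact absurd hbot (ne_of_gt (lt_of_lt_of_le (WithBot.bot_lt_coe 0) ringKrullDim_nonneg_of_nontrivial))

end Groth.Agent.FibreDimStrata
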