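import Groth.Agent.FibreDimStrata.Basic
import Groth.Agent.FibreDimStrata.Stage
import Groth.Agent.FieldExtDim.Basic
import Mathlib.AlgebraicGeometry.Fiber
import Mathlib.AlgebraicGeometry.Morphisms.Affine

/-!
# Fibre dimensions at a finitely generated stage
-/

set_option autoImplicit false

universe u

open CategoryTheory CategoryTheory.Limits AlgebraicGeometry
open scoped TensorProduct

namespace Groth.Agent.FibreDimStrata

theorem fibre_dim_baseChange (R S C : Type u) [CommRing R] [CommRing S] [CommRing C] [Algebra R S]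
    [Algebra R C] [Algebra.FiniteType R C] (p : Ideal R) [p.IsPrime] (q : Ideal S) [q.IsPrime]
    (hpq : p = q.comap (algebraMap R S)) :
    ringKrullDim (q.Fiber (S ⊗[R] C)) = ringKrullDim (p.Fiber C) := by
  letI : Algebra p.ResidueField q.ResidueField :=
    (Ideal.ResidueField.map p q (algebraMap R S) hpq).toAlgebra
  have : IsScalarTower R p.ResidueField q.ResidueField := IsScalarTower.of_algebraMap_eq fun x => by
    rw [RingHom.algebraMap_toAlgebra, Ideal.ResidueField.map_algebraMap, ← IsScalarTower.algebraMap_apply]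
  have := finiteType_fiber (C := C) p
  rw [← FieldExtDim.ringKrullDim_tensor_field (k := p.ResidueField) (K := q.ResidueField) (p.Fiber C)]
  exact (ringKrullDim_eq_of_ringEquiv
    (Algebra.TensorProduct.cancelBaseChange R S S q.ResidueField C).toRingEquiv).trans
    (ringKrullDim_eq_of_ringEquiv
      (Algebra.TensorProduct.cancelBaseChange R p.ResidueField p.ResidueField q.ResidueField C).toRingEquiv).symm

theorem fibre_dim_spec (R C : Type u) [CommRing R] [CommRing C] [Algebra R C] (p : PrimeSpectrum R) :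
    topologicalKrullDim ↑((Spec.map (CommRingCat.ofHom (algebraMap R C))).fiber p) =
      ringKrullDim (p.asIdeal.Fiber C) := by
  let e := Arrow.leftFunc.mapIso (Spec.fiberToSpecResidueFieldIso R C p)
  exact (IsHomeomorph.topologicalKrullDim_eq _ e.hom.homeomorph.isHomeomorph).trans
    (PrimeSpectrum.topologicalKrullDim_eq_ringKrullDim _)

theorem fibre_dim_of_isPullback {X Y X' Y' : Scheme.{u}} (f : X ⟶ Y) [LocallyOfFiniteType f]
    {g : Y' ⟶ Y} {f' : X' ⟶ Y'} {g' : X' ⟶ X} (hc : IsPullback g' f' f g) (y' : Y') :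
    topologicalKrullDim ↑(f'.fiber y') = topologicalKrullDim ↑(f.fiber (g y')) := by
  letI : Algebra (Y.residueField (g y')) (Y'.residueField y') := (g.residueFieldMap y').hom.toAlgebra
  have : LocallyOfFiniteType (f.fiberToSpecResidueField (g y')) :=
    MorphismProperty.pullback_snd _ _ ‹LocallyOfFiniteType f›
  have h := isPullback_fiberToSpecResidueField_of_isPullback hc y'
  rw [← FieldExtDim.dim_pullback_field (k := Y.residueField (g y')) (K := Y'.residueField y')
    (f.fiberToSpecResidueField (g y'))]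
  exact IsHomeomorph.topologicalKrullDim_eq _ h.isoPullback.hom.homeomorph.isHomeomorph

theorem exists_const_fibre_dim_spec (R C : Type u) [CommRing R] [CommRing C] [Algebra R C]
    [Algebra.FiniteType R C] (J : PrimeSpectrum R) :
    ∃ c ∉ J.asIdeal, ∀ p : PrimeSpectrum R, J.asIdeal ≤ p.asIdeal → c ∉ p.asIdeal →
      ringKrullDim (p.asIdeal.Fiber C) = ringKrullDim (J.asIdeal.Fiber C) := by
  obtain ⟨c, hc, h⟩ := exists_const_fibre_dim (C := C) J.asIdeal
  exact ⟨c, hc, fun p h1 h2 => h p.asIdeal h1 h2⟩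

theorem exists_model_fibre_dim {X S : Scheme.{u}} (f : X ⟶ S) [IsAffine S]
    (Ψ : WithBot ℕ∞ → Prop) (h : ∀ s : S, Ψ (topologicalKrullDim ↑(f.fiber s)))
    {X₀ S₀ : Scheme.{u}} (f₀ : X₀ ⟶ S₀) [IsAffine X₀] [IsAffine S₀] [LocallyOfFiniteType f₀]
    (g : S ⟶ S₀) (g' : X ⟶ X₀) (hpb : IsPullback g' f f₀ g) (hS₀ : Algebra.FiniteType ℤ Γ(S₀, ⊤)) :
    ∃ (X₁ S₁ : Scheme.{u}) (f₁ : X₁ ⟶ S₁) (k : S ⟶ S₁) (k' : X ⟶ X₁), IsAffine X₁ ∧ IsAffine S₁ ∧
      IsPullback k' f f₁ k ∧ Algebra.FiniteType ℤ Γ(S₁, ⊤) ∧ LocallyOfFiniteType f₁ ∧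
      (∀ s : S₁, Ψ (topologicalKrullDim ↑(f₁.fiber s))) := by
  classical
  let R : CommRingCat.{u} := Γ(S₀, ⊤)
  let C : CommRingCat.{u} := Γ(X₀, ⊤)
  let A : CommRingCat.{u} := Γ(S, ⊤)
  letI : Algebra R C := f₀.appTop.hom.toAlgebra
  letI : Algebra R A := g.appTop.hom.toAlgebra
  have : IsNoetherianRing R := Algebra.FiniteType.isNoetherianRing ℤ R
  have hC : Algebra.FiniteType R C := (HasRingHomProperty.iff_of_isAffine (P := @LocallyOfFiniteType)).1 ‹_›
  have sq : IsPullback X₀.isoSpec.inv (Spec.map f₀.appTop) f₀ S₀.isoSpec.inv :=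
    IsPullback.of_horiz_isIso ⟨(Scheme.isoSpec_inv_naturality f₀).symm⟩
  have hdim : ∀ p : PrimeSpectrum R, ringKrullDim (p.asIdeal.Fiber C) =
      topologicalKrullDim ↑(f₀.fiber (S₀.isoSpec.inv p)) := fun p => by
    rw [← fibre_dim_of_isPullback f₀ sq p]
    exact (fibre_dim_spec R C p).symm
  obtain ⟨s, hs⟩ := exists_stage A (fun p => Ψ (ringKrullDim (p.asIdeal.Fiber C)))
    (fun J => by
      obtain ⟨c, hc, hcJ⟩ := exists_const_fibre_dim_spec R C J
      exact ⟨c, hc, fun p h1 h2 => by rw [hcJ p h1 h2]⟩)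
    (fun P => by
      rw [hdim]
      have e : S₀.isoSpec.inv (P.comap (algebraMap R A)) = g (S.isoSpec.inv P) := by
        have := congr($(Scheme.isoSpec_inv_naturality g) P)
        simp only [Scheme.Hom.comp_apply] at this
        exact this
      rw [e, ← fibre_dim_of_isPullback f₀ hpb]
      exact h _)
  let B := Algebra.adjoin R (s : Set A)
  have hBfg : Algebra.FiniteType R B := Algebra.FiniteType.adjoin_of_finite s.finite_toSet
  let j : Spec (CommRingCat.of B) ⟶ S₀ :=
    Spec.map (CommRingCat.ofHom (algebraMap R B)) ≫ S₀.isoSpec.inv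
  let k : S ⟶ Spec (CommRingCat.of B) :=
    S.isoSpec.hom ≫ Spec.map (CommRingCat.ofHom B.val.toRingHom)
  have hkj : k ≫ j = g := by
    show (S.isoSpec.hom ≫ _) ≫ _ ≫ _ = g
    rw [Category.assoc, ← Category.assoc (Spec.map _), ← Spec.map_comp,
      show CommRingCat.ofHom (algebraMap R B) ≫ CommRingCat.ofHom B.val.toRingHom = g.appTop from
        CommRingCat.hom_ext (RingHom.ext fun x => rfl), Scheme.isoSpec_inv_naturality,
      Iso.hom_inv_id_assoc]
  let f₁ := pullback.snd f₀ j
  let k' : X ⟶ pullback f₀ j := pullback.lift g' (f ≫ k) (by rw [Category.assoc, hkj]; exact hpb.w)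
  have hpb₁ : IsPullback k' f f₁ k := IsPullback.of_right (h₁₂ := pullback.fst f₀ j)
    (by rw [pullback.lift_fst, hkj]; exact hpb) (pullback.lift_snd _ _ _)
    (IsPullback.of_hasPullback f₀ j)
  have : IsAffineHom f₁ := MorphismProperty.pullback_snd _ _ (inferInstance : IsAffineHom f₀)
  have : IsAffine (pullback f₀ j) := isAffine_of_isAffineHom f₁
  have hlft : LocallyOfFiniteType f₁ := MorphismProperty.pullback_snd _ _ ‹LocallyOfFiniteType f₀›
  refine ⟨pullback f₀ j, Spec (CommRingCat.of B), f₁, k, k', inferInstance, inferInstance, hpb₁, ?_, hlft, ?_⟩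
  · have : Algebra.FiniteType ℤ B := hS₀.trans hBfg
    exact this.equiv (Scheme.ΓSpecIso (.of B)).symm.commRingCatIsoToRingEquiv.toIntAlgEquiv
  · intro y
    have hy := hs B Algebra.subset_adjoin y
    rw [hdim] at hy
    rw [fibre_dim_of_isPullback f₀ (IsPullback.of_hasPullback f₀ j) y]
    exact hy

end Groth.Agent.FibreDimStrata
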